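import Mathlib

/-!
# Closures of open sets and specializations
-/

set_option autoImplicit false

universe u

open AlgebraicGeometry TopologicalSpace

namespace Groth.Agent.ConnInfinity21

/-- With finitely many irreducible components, a point in the closure of an open set is a
specialization of a point of the open set. -/
theorem exists_specializes_of_finite {T : Type*} [TopologicalSpace T] [QuasiSober T] [T0Space T]
    (h : (genericPoints T).Finite) {O : Set T} (hO : IsOpen O) {z : T} (hz : z ∈ closure O) :
    ∃ c ∈ O, c ⤳ z := by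
  let S := genericPoints T ∩ O
  have hSfin : S.Finite := h.inter_of_left O
  have hsub : O ⊆ ⋃ η ∈ S, closure {η} := by
    intro c hc
    have hcl : c ∈ closure (genericPoints T) := by
      rw [genericPoints.closure]; exact Set.mem_univ c
    have hcS : c ∈ closure S := by
      have := hO.inter_closure ⟨hc, hcl⟩
      rwa [Set.inter_comm] at this
    refine closure_minimal (t := ⋃ η ∈ S, closure {η}) (fun η hη => Set.mem_biUnion hη (subset_closure rfl)) ?_ hcS
    exact hSfin.isClosed_biUnion fun η _ => isClosed_closure
  have hz' : z ∈ ⋃ η ∈ S, closure {η} := by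
    rw [← hSfin.isClosed_biUnion (f := fun η => closure {η}) (fun η _ => isClosed_closure)
      |>.closure_eq]
    exact closure_mono hsub hz
  simp only [Set.mem_iUnion] at hz'
  obtain ⟨η, hη, hzη⟩ := hz'
  exact ⟨η, hη.2, specializes_iff_mem_closure.mpr hzη⟩

/-- In an affine scheme, a point in the closure of a compact open set is a specialization of a point
of it. -/
theorem exists_specializes_of_isCompact {R : Type u} [CommRing R] {O : Set (PrimeSpectrum R)}
    (hO : IsOpen O) (hc : IsCompact O) {z : PrimeSpectrum R} (hz : z ∈ closure O) :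
    ∃ c ∈ O, c ⤳ z := by
  obtain ⟨s, hs, rfl⟩ := (isCompact_open_iff_eq_finite_iUnion_of_isTopologicalBasis _
    PrimeSpectrum.isTopologicalBasis_basic_opens (fun i => PrimeSpectrum.isCompact_basicOpen i) O).mp ⟨hc, hO⟩
  rw [hs.closure_biUnion] at hz
  simp only [Set.mem_iUnion] at hz ⊢
  obtain ⟨r, hr, hzr⟩ := hz
  rw [← PrimeSpectrum.localization_away_comap_range (Localization.Away r) r,
    PrimeSpectrum.closure_range_comap, PrimeSpectrum.mem_zeroLocus] at hzr
  obtain ⟨q, hq, hqz⟩ := Ideal.exists_minimalPrimes_le (J := z.asIdeal) hzr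
  obtain ⟨q', hq', hq'q⟩ :=
    Ideal.exists_comap_eq_of_mem_minimalPrimes (algebraMap R (Localization.Away r)) q
      (I := ⊥) hq
  have := hq'
  refine ⟨⟨q, hq.1.1⟩, ⟨r, hr, ?_⟩, (PrimeSpectrum.le_iff_specializes _ z).mp hqz⟩
  rw [← PrimeSpectrum.localization_away_comap_range (Localization.Away r) r]
  exact ⟨⟨q', hq'⟩, PrimeSpectrum.ext hq'q.2⟩

end Groth.Agent.ConnInfinity21
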