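import Groth.Prelude.Def_FEt
import Groth.Prelude.Def_Hensel
import Groth.Agent.Lib.FEt21.Clopen
import Groth.Agent.Lib.Hensel.Sections
import Groth.Agent.Lib.Hensel.Henselization
import Groth.Agent.S0537
import Groth.Agent.Lib.FFDesc.Basic
import Groth.Agent.ConnInfinity21.Specialize

/-!
# Covers on a dense open subscheme which is connected at infinity
-/

set_option autoImplicit false

universe u

open CategoryTheory CategoryTheory.Limits AlgebraicGeometry

namespace Groth.Agent.ConnInfinity21

variable {X : Scheme.{u}}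

/-- The structure morphism of a cover. -/
abbrev hm (A : FEt.Cat X) : A.left ⟶ X := A.hom

/-- Through every point of a finite étale cover passes a flat lift of the strict henselization of the
local ring of the point below it. -/
theorem exists_flat_lift (A : FEt.Cat X) (z : A.left) (R : Type u) [CommRing R] [IsLocalRing R]
    [Algebra (X.presheaf.stalk (hm A z)) R] [IsLocalHom (algebraMap (X.presheaf.stalk (hm A z)) R)]
    [Hensel.IsStrictHenselization (X.presheaf.stalk (hm A z)) R] :
    ∃ s : Spec (CommRingCat.of R) ⟶ A.left, Flat s ∧ s (IsLocalRing.closedPoint R) = z ∧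
      ∀ q : Spec (CommRingCat.of R), q ≠ IsLocalRing.closedPoint R → hm A (s q) ≠ hm A z := by
  let fA : A.left ⟶ X := A.hom
  have : IsFinite fA := A.prop.1
  have : Etale fA := A.prop.2
  let x : X := fA z
  let O := X.presheaf.stalk x
  let σ : Spec (CommRingCat.of R) ⟶ Spec O := Spec.map (CommRingCat.ofHom (algebraMap O R))
  let g : Spec (CommRingCat.of R) ⟶ X := σ ≫ X.fromSpecStalk x
  have : HenselianLocalRing R := Hensel.IsStrictHenselization.henselian O
  have hsep : IsSepClosed (IsLocalRing.ResidueField R) :=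
    (Hensel.IsStrictHenselization.isSepClosure (R := O) (S := R)).sep_closed
  have hflat : Module.Flat O R := GrothLib.Hensel.IsStrictHenselization.flat
  have : Flat σ := by
    rw [HasRingHomProperty.Spec_iff (P := @Flat)]
    exact RingHom.flat_algebraMap_iff.mpr hflat
  have : Flat (X.fromSpecStalk x) := GrothLib.FFDesc.flat_fromSpecStalk' X x
  have : Flat g := inferInstanceAs (Flat (σ ≫ X.fromSpecStalk x))
  have hσ : σ (IsLocalRing.closedPoint R) = IsLocalRing.closedPoint O :=
    IsLocalRing.comap_closedPoint (CommRingCat.ofHom (algebraMap O R)).hom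
  have hgc : g (IsLocalRing.closedPoint R) = fA z := by
    show X.fromSpecStalk x (σ _) = _
    rw [hσ, Scheme.fromSpecStalk_closedPoint]
  obtain ⟨p, hp1, hp2⟩ :=
    Scheme.Pullback.exists_preimage_pullback (f := fA) (g := g) z (IsLocalRing.closedPoint R) hgc.symm
  have : Etale (pullback.snd fA g) := MorphismProperty.pullback_snd _ _ inferInstance
  obtain ⟨v, hv, hvc⟩ := GrothLib.Hensel.exists_section_through (pullback.snd fA g) p hp2
  have : Flat (pullback.fst fA g) := MorphismProperty.pullback_fst _ _ inferInstance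
  have : Etale v := by
    have h1 : Etale (v ≫ pullback.snd fA g) := by rw [hv]; infer_instance
    exact MorphismProperty.of_postcomp (W := @Etale) (W' := @Etale) v (pullback.snd fA g)
      inferInstance h1
  have hs : (v ≫ pullback.fst fA g) ≫ fA = g := by
    rw [Category.assoc, pullback.condition, reassoc_of% hv]
  refine ⟨v ≫ pullback.fst fA g, inferInstance, ?_, fun q hq he => hq ?_⟩
  · rw [Scheme.Hom.comp_apply, hvc, hp1]
  · have hgq : g q = fA z := by
      rw [← hs]
      exact he
    have : σ q = IsLocalRing.closedPoint O := by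
      refine (X.fromSpecStalk x).isEmbedding.injective ?_
      rw [Scheme.fromSpecStalk_closedPoint]
      exact hgq
    refine PrimeSpectrum.ext ((IsLocalRing.maximalIdeal.isMaximal R).eq_of_le q.isPrime.ne_top ?_).symm
    rw [← GrothLib.Hensel.IsStrictHenselization.map_maximalIdeal (R := O) (S := R),
      Ideal.map_le_iff_le_comap]
    exact (congrArg PrimeSpectrum.asIdeal this).ge

/-- The core argument: a point in two closed sets which separate the generizations outside its fibre
contradicts connectedness at infinity. -/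
theorem false_of_mem_inter (A : FEt.Cat X) (F F' : Set A.left) (hF : IsClosed F) (hF' : IsClosed F')
    (z : A.left)
    (hsh : ∀ (R : Type u) [CommRing R] [IsLocalRing R] [Algebra (X.presheaf.stalk (hm A z)) R]
      [IsLocalHom (algebraMap (X.presheaf.stalk (hm A z)) R)]
      [Hensel.IsStrictHenselization (X.presheaf.stalk (hm A z)) R],
      ConnectedSpace (FEt.puncturedSpec R : Scheme.{u}))
    (hcover : ∀ a : A.left, a ∈ F ∪ F')
    (hgen : ∀ a, a ⤳ z → hm A a ≠ hm A z → ¬ (a ∈ F ∧ a ∈ F'))
    (h1 : ∃ c ∈ F, c ⤳ z ∧ c ≠ z) (h2 : ∃ c ∈ F', c ⤳ z ∧ c ≠ z) : False := by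
  obtain ⟨R, _, _, _, _, _⟩ := S0537.result (X.presheaf.stalk (hm A z))
  have := hsh R
  obtain ⟨s, _, hsz, hs⟩ := exists_flat_lift A z R
  let P := FEt.puncturedSpec R
  let j : ↥(P : Scheme.{u}) → A.left := fun q => s (P.ι q)
  have hjc : Continuous j := s.continuous.comp P.ι.continuous
  have hspec : ∀ q : Spec (CommRingCat.of R), s q ⤳ z := fun q =>
    hsz ▸ (IsLocalRing.specializes_closedPoint q).map s.continuous
  have hne : ∀ q : ↥(P : Scheme.{u}), P.ι q ≠ IsLocalRing.closedPoint R := fun q => q.2
  have hdisj : Disjoint (j ⁻¹' F) (j ⁻¹' F') := by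
    rw [Set.disjoint_left]
    exact fun q hq hq' => hgen _ (hspec _) (hs _ (hne q)) ⟨hq, hq'⟩
  have hlift : ∀ c, c ⤳ z → c ≠ z → ∃ q, j q = c := by
    intro c hc hcz
    obtain ⟨q, -, hqc⟩ := Flat.generalizingMap s (a := IsLocalRing.closedPoint R) (b := c) (hsz ▸ hc)
    have hq : q ≠ IsLocalRing.closedPoint R := fun h => hcz (by rw [← hqc, h, hsz])
    exact ⟨⟨q, hq⟩, hqc⟩
  have hcompl : (j ⁻¹' F)ᶜ = j ⁻¹' F' := by
    ext q
    exact ⟨fun h => (hcover (j q)).resolve_left h, fun h h' => Set.disjoint_left.mp hdisj h' h⟩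
  have hclopen : IsClopen (j ⁻¹' F) :=
    ⟨hF.preimage hjc, by rw [← isClosed_compl_iff, hcompl]; exact hF'.preimage hjc⟩
  obtain ⟨c, hc, hcz, hcne⟩ := h1
  obtain ⟨c', hc', hcz', hcne'⟩ := h2
  obtain ⟨q, hq⟩ := hlift c hcz hcne
  obtain ⟨q', hq'⟩ := hlift c' hcz' hcne'
  rcases isClopen_iff.mp hclopen with h | h
  · exact Set.eq_empty_iff_forall_notMem.mp h q (by rw [Set.mem_preimage, hq]; exact hc)
  · exact Set.disjoint_left.mp hdisj (h ▸ Set.mem_univ q') (by rw [Set.mem_preimage, hq']; exact hc')

/-- Clopen subsets over a dense open extend as soon as the closures of complementary ones are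
disjoint. -/
theorem fullyFaithful_of_disjoint_closure (U : X.Opens) (hU : Dense (U : Set X))
    (h : ∀ (A : FEt.Cat X) (O O' : Set A.left), IsOpen O → IsOpen O' → Disjoint O O' →
      O ∪ O' = hm A ⁻¹' (U : Set X) → Disjoint (closure O) (closure O')) :
    (FEt.restrict U.ι).Full ∧ (FEt.restrict U.ι).Faithful := by
  refine GrothLib.FEt21.fullyFaithful_of_clopen U.ι (fun A => GrothLib.FEt21.clopenInj_of_denseRange _
    (by rw [DenseRange, Scheme.Opens.range_ι]; exact hU) A) fun A C hC => ?_
  let fA : A.left ⟶ X := A.hom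
  have : IsFinite fA := A.prop.1
  have : Etale fA := A.prop.2
  let i := pullback.fst A.hom U.ι
  have hrange : Set.range i = hm A ⁻¹' (U : Set X) := by
    rw [IsOpenImmersion.range_pullbackFst, Scheme.Opens.opensRange_ι]
    rfl
  have hinj : Function.Injective i := i.isOpenEmbedding.injective
  have hd := h A (i '' C) (i '' Cᶜ) (i.isOpenEmbedding.isOpenMap _ hC.2)
    (i.isOpenEmbedding.isOpenMap _ hC.compl.2) ((Set.disjoint_image_iff hinj).mpr disjoint_compl_right)
    (by rw [← Set.image_union, Set.union_compl_self, Set.image_univ, hrange])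
  have huniv : closure (i '' C) ∪ closure (i '' Cᶜ) = Set.univ := by
    rw [← closure_union, ← Set.image_union, Set.union_compl_self, Set.image_univ, hrange]
    exact (hU.preimage fA.isOpenMap).closure_eq
  have hcompl : (closure (i '' C))ᶜ = closure (i '' Cᶜ) :=
    Set.Subset.antisymm (fun a ha => ((Set.ext_iff.mp huniv a).mpr trivial).resolve_left ha)
      (fun a ha ha' => Set.disjoint_left.mp hd ha' ha)
  refine ⟨closure (i '' C), ⟨isClosed_closure, by
    rw [← isClosed_compl_iff, hcompl]; exact isClosed_closure⟩, ?_⟩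
  ext p
  refine ⟨fun hp => ?_, fun hp => subset_closure ⟨p, hp, rfl⟩⟩
  by_contra hpC
  exact Set.disjoint_left.mp hd hp (subset_closure ⟨p, hpC, rfl⟩)

theorem fullyFaithful_of_closed_points (U : X.Opens) (hU : Dense (U : Set X)) [QuasiCompact U.ι]
    (hcl : ∀ x : X, x ∉ U → IsClosed ({x} : Set X))
    (hsh : ∀ x : X, x ∉ U → ∀ (R : Type u) [CommRing R] [IsLocalRing R] [Algebra (X.presheaf.stalk x) R]
      [IsLocalHom (algebraMap (X.presheaf.stalk x) R)] [Hensel.IsStrictHenselization (X.presheaf.stalk x) R],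
      ConnectedSpace (FEt.puncturedSpec R : Scheme.{u})) :
    (FEt.restrict U.ι).Full ∧ (FEt.restrict U.ι).Faithful := by
  refine fullyFaithful_of_disjoint_closure U hU fun A O O' hO hO' hd hun => ?_
  rw [Set.disjoint_left]
  intro z hz hz'
  let fA : A.left ⟶ X := A.hom
  have : IsFinite fA := A.prop.1
  have hzU : hm A z ∉ U := by
    intro h
    rcases (Set.ext_iff.mp hun z).mpr h with h1 | h1
    · exact Set.disjoint_left.mp (hd.closure_right hO) h1 hz'
    · exact Set.disjoint_left.mp (hd.closure_left hO') hz h1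
  have hqc : ∀ (O O' : Set A.left), IsOpen O → IsOpen O' → Disjoint O O' →
      O ∪ O' = hm A ⁻¹' (U : Set X) → z ∈ closure O → ∃ c ∈ closure O, c ⤳ z ∧ c ≠ z := by
    intro O O' hO hO' hd hun hz
    obtain ⟨_, ⟨V, hV, rfl⟩, hxV, -⟩ :=
      X.isBasis_affineOpens.exists_subset_of_mem_open (Set.mem_univ (hm A z)) isOpen_univ
    let W := fA ⁻¹ᵁ V
    have hW : IsAffineOpen W := hV.preimage fA
    let e := hW.fromSpec
    have hK : IsCompact ((W : Set A.left) ∩ hm A ⁻¹' (U : Set X)) := by
      have h1 : IsCompact (U.ι ⁻¹' (V : Set X)) := U.ι.isCompact_preimage hV.isCompact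
      have h2 := h1.image U.ι.continuous
      rw [Set.image_preimage_eq_inter_range, Scheme.Opens.range_ι] at h2
      exact fA.isCompact_preimage (U := V ⊓ U) h2
    have hKO : IsCompact ((W : Set A.left) ∩ O) := by
      have : (W : Set A.left) ∩ O = ((W : Set A.left) ∩ hm A ⁻¹' (U : Set X)) ∩ O'ᶜ := by
        rw [← hun]
        ext a
        exact ⟨fun h => ⟨⟨h.1, Or.inl h.2⟩, Set.disjoint_left.mp hd h.2⟩,
          fun h => ⟨h.1.1, h.1.2.resolve_right h.2⟩⟩
      rw [this]
      exact hK.inter_right hO'.isClosed_compl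
    have hpre : IsCompact (e ⁻¹' O) := by
      refine e.isOpenEmbedding.isInducing.isCompact_iff.mpr ?_
      rw [Set.image_preimage_eq_inter_range, hW.range_fromSpec, Set.inter_comm]
      exact hKO
    obtain ⟨w, rfl⟩ : z ∈ Set.range e := by rw [hW.range_fromSpec]; exact hxV
    have hw : w ∈ closure (e ⁻¹' O) := by
      rw [← e.isOpenEmbedding.isOpenMap.preimage_closure_eq_closure_preimage e.continuous]
      exact hz
    obtain ⟨c, hc, hcw⟩ := exists_specializes_of_isCompact (hO.preimage e.continuous) hpre hw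
    refine ⟨e c, subset_closure hc, hcw.map e.continuous, fun h => hzU ?_⟩
    have : e c ∈ hm A ⁻¹' (U : Set X) := hun ▸ Or.inl hc
    rwa [h] at this
  refine false_of_mem_inter A _ _ isClosed_closure isClosed_closure z (hsh _ hzU) (fun a => ?_)
    (fun a ha hne => ?_) (hqc O O' hO hO' hd hun hz)
    (hqc O' O hO' hO hd.symm ((Set.union_comm _ _).trans hun) hz')
  · rw [← closure_union, hun]
    have : Etale fA := A.prop.2
    rw [(hU.preimage fA.isOpenMap).closure_eq]
    trivial
  · have haU : hm A a ∈ U := by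
      by_contra h
      exact hne ((hcl _ h).stableUnderSpecialization (ha.map fA.continuous) rfl).symm
    rintro ⟨h1, h2⟩
    rcases (Set.ext_iff.mp hun a).mpr haU with h | h
    · exact Set.disjoint_left.mp (hd.closure_right hO) h h2
    · exact Set.disjoint_left.mp (hd.closure_left hO') h1 h

theorem fullyFaithful_of_finite_components (U : X.Opens) (hU : Dense (U : Set X))
    (hirr : ∀ V : X.Opens, IsCompact (V : Set X) → (irreducibleComponents ↥V).Finite)
    (hsh : ∀ x : X, x ∉ U → ∀ (R : Type u) [CommRing R] [IsLocalRing R] [Algebra (X.presheaf.stalk x) R]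
      [IsLocalHom (algebraMap (X.presheaf.stalk x) R)] [Hensel.IsStrictHenselization (X.presheaf.stalk x) R],
      ConnectedSpace (FEt.puncturedSpec R : Scheme.{u})) :
    (FEt.restrict U.ι).Full ∧ (FEt.restrict U.ι).Faithful := by
  refine fullyFaithful_of_disjoint_closure U hU fun A O O' hO hO' hd hun => ?_
  by_contra hnd
  let fA : A.left ⟶ X := A.hom
  have : IsFinite fA := A.prop.1
  have : Etale fA := A.prop.2
  obtain ⟨z₀, hz₀⟩ := Set.not_disjoint_iff_nonempty_inter.mp hnd
  let Z := closure O ∩ closure O'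
  have hZ : IsClosed Z := isClosed_closure.inter isClosed_closure
  let T : Set ↥Z := irreducibleComponent (⟨z₀, hz₀⟩ : ↥Z)
  have hT : IsClosed T := isClosed_irreducibleComponent
  have hTi : IsIrreducible (((↑) : ↥Z → A.left) '' T) :=
    isIrreducible_irreducibleComponent.image _ continuous_subtype_val.continuousOn
  have hTc : IsClosed (((↑) : ↥Z → A.left) '' T) := hZ.isClosedEmbedding_subtypeVal.isClosedMap _ hT
  obtain ⟨z, hz⟩ := QuasiSober.sober hTi hTc
  have hzT := hz.mem
  obtain ⟨⟨z', hz'Z⟩, hz'T, rfl⟩ := hzT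
  have hmax : ∀ a ∈ Z, a ⤳ z' → a = z' := by
    intro a ha hspec
    have hsub : ((↑) : ↥Z → A.left) '' T ⊆ closure {a} := by
      rw [← hz.def]
      exact closure_minimal (Set.singleton_subset_iff.mpr (specializes_iff_mem_closure.mp hspec))
        isClosed_closure
    have hirr' : IsPreirreducible (((↑) : ↥Z → A.left) ⁻¹' closure {a}) := by
      have : closure ({⟨a, ha⟩} : Set ↥Z) = ((↑) : ↥Z → A.left) ⁻¹' closure {a} := by
        rw [hZ.isClosedEmbedding_subtypeVal.isInducing.closure_eq_preimage_closure_image,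
          Set.image_singleton]
      rw [← this]
      exact isIrreducible_singleton.closure.2
    have hle : T ⊆ ((↑) : ↥Z → A.left) ⁻¹' closure {a} := fun t ht => hsub ⟨t, ht, rfl⟩
    have heq := eq_irreducibleComponent hirr' hle
    have haT : a ∈ ((↑) : ↥Z → A.left) '' T := ⟨⟨a, ha⟩, by
      show (⟨a, ha⟩ : ↥Z) ∈ irreducibleComponent _
      rw [← heq]; exact subset_closure (Set.mem_singleton a), rfl⟩
    exact hspec.antisymm (hz.specializes haT) |>.eq
  have hzU : hm A z' ∉ U := by
    intro h
    rcases (Set.ext_iff.mp hun z').mpr h with h1 | h1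
    · exact Set.disjoint_left.mp (hd.closure_right hO) h1 hz'Z.2
    · exact Set.disjoint_left.mp (hd.closure_left hO') hz'Z.1 h1
  obtain ⟨_, ⟨V, hV, rfl⟩, hxV, -⟩ :=
    X.isBasis_affineOpens.exists_subset_of_mem_open (Set.mem_univ (hm A z')) isOpen_univ
  let W := fA ⁻¹ᵁ V
  have hgenW : (genericPoints ↥W).Finite := by
    let g := fA ∣_ V
    refine ((genericPoints.finite (hirr V hV.isCompact)).preimage' fun b _ =>
      g.finite_preimage_singleton b).subset fun a ha => ?_
    show g a ∈ genericPoints ↥V
    let η := genericPoints.ofComponent ⟨_, irreducibleComponent_mem_irreducibleComponents (g a)⟩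
    have hη : η.1 ⤳ g a :=
      (genericPoints.isGenericPoint_ofComponent
        ⟨_, irreducibleComponent_mem_irreducibleComponents (g a)⟩).specializes mem_irreducibleComponent
    obtain ⟨a', ha', hga'⟩ := Flat.generalizingMap g hη
    have h1 : closure {a} ⊆ closure {a'} :=
      closure_minimal (Set.singleton_subset_iff.mpr (specializes_iff_mem_closure.mp ha')) isClosed_closure
    have h2 : closure {a'} ⊆ closure {a} := ha.2 isIrreducible_singleton.closure h1
    have h3 : a ⤳ a' := specializes_iff_mem_closure.mpr (h2 (subset_closure rfl))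
    rw [h3.antisymm ha' |>.eq, hga']
    exact η.2
  have : QuasiSober ↥W := W.2.isOpenEmbedding_subtypeVal.quasiSober
  have hside : ∀ O : Set A.left, IsOpen O → O ⊆ hm A ⁻¹' (U : Set X) → z' ∈ closure O →
      ∃ c ∈ closure O, c ⤳ z' ∧ c ≠ z' := by
    intro O hO hOU hzO
    have : (⟨z', hxV⟩ : ↥W) ∈ closure (((↑) : ↥W → A.left) ⁻¹' O) := by
      exact (W.2.isOpenMap_subtype_val.preimage_closure_eq_closure_preimage continuous_subtype_val
        O).le hzO
    obtain ⟨c, hc, hcz⟩ := exists_specializes_of_finite hgenW (hO.preimage continuous_subtype_val) this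
    refine ⟨c.1, subset_closure hc, hcz.map continuous_subtype_val, fun h => hzU ?_⟩
    have := hOU hc
    rwa [h] at this
  refine false_of_mem_inter A _ _ isClosed_closure isClosed_closure z' (hsh _ hzU) (fun a => ?_)
    (fun a ha hne h => hne (by rw [hmax a h ha]))
    (hside O hO (hun ▸ Set.subset_union_left) hz'Z.1)
    (hside O' hO' (hun ▸ Set.subset_union_right) hz'Z.2)
  rw [← closure_union, hun, (hU.preimage fA.isOpenMap).closure_eq]
  trivial

end Groth.Agent.ConnInfinity21
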